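import Mathlib

/-!
Certificates for the order of a presented finite Coxeter group and for the faithfulness of an
integral reflection representation: a chain of parabolic subgroups, each step given by a finite
table of cosets with a list of deductions from the braid relations.
-/

set_option autoImplicit false

namespace CfsgLib.CoxeterFinite

/-! ### Checkers on natural numbers -/

/-- Entry `(v, a)` of a packed neighbour table. -/
def nbr (n T v a : ℕ) : ℕ := (T >>> (8 * (v * n + a))) % 256

/-- Follow known edges. -/
def walk (n T known : ℕ) : List ℕ → ℕ → Option ℕ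
  | [], v => some v
  | a :: l, v => if decide (a < n) && known.testBit (v * n + a) then walk n T known l (nbr n T v a) else none

/-- The alternating list `t, s, t, …, t` of length `2 k + 1`. -/
def altList (t s : ℕ) : ℕ → List ℕ
  | 0 => [t]
  | k + 1 => t :: s :: altList t s k

/-- Mark the edge `(v, a)` in both directions. -/
def mark (n T v a known : ℕ) : ℕ :=
  known ||| (1 <<< (v * n + a)) ||| (1 <<< (nbr n T v a * n + a))

/-- One step of the chain: `N` cosets, tree, table, deductions, a weight. -/
structure Step where
  N : ℕ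
  par : List (ℕ × ℕ)
  tbl : ℕ
  cert : List (ℕ × ℕ × ℕ)
  v0 : List ℤ
  /-- the translates of `v0` along the tree, packed with `encVec` -/
  pts : List ℕ

/-- `p` and `a` of the tree edge leading to `j`. -/
def parent (par : List (ℕ × ℕ)) (j : ℕ) : ℕ × ℕ := par.getD (j - 1) (0, 0)

/-- Initial known edges: those of the generators of the smaller parabolic at the base coset. -/
def initKnown (n T N : ℕ) : ℕ → Option ℕ
  | 0 => some 0
  | a + 1 => (initKnown n T N a).bind fun K =>
      if decide (a < n) && decide (0 < N) && nbr n T 0 a == 0 then some (mark n T 0 a K) else none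

/-- Add the tree edges. -/
def treeKnown (n T N k : ℕ) (par : List (ℕ × ℕ)) : ℕ → ℕ → Option ℕ
  | 0, K => some K
  | j + 1, K => (treeKnown n T N k par j K).bind fun K' =>
      let pa := parent par (j + 1)
      if decide (pa.1 ≤ j) && decide (j + 1 < N) && decide (pa.2 < n) && decide (pa.2 < k + 1)
          && nbr n T pa.1 pa.2 == j + 1 && nbr n T (j + 1) pa.2 == pa.1 then
        some (mark n T pa.1 pa.2 K') else none

/-- Run the deductions. -/
def deduce (n T N : ℕ) (m : ℕ → ℕ → ℕ) : List (ℕ × ℕ × ℕ) → ℕ → Option ℕ
  | [], K => some K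
  | (v, s, t) :: l, K =>
      if decide (v < N) && decide (s < n) && decide (0 < m t s) && decide (nbr n T v s < N)
          && nbr n T (nbr n T v s) s == v
          && walk n T K (altList t s (m t s - 1)) v == some (nbr n T v s) then
        deduce n T N m l (mark n T v s K) else none

/-- All edges of the generators `< k + 1` are known and stay below `N`. -/
def complete (n T N k known : ℕ) : Bool :=
  decide (k + 1 ≤ n) && (List.range N).all fun v => (List.range (k + 1)).all fun a =>
    known.testBit (v * n + a) && decide (nbr n T v a < N)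

/-- The combinatorial check of step number `k`. -/
def checkTable (n : ℕ) (m : ℕ → ℕ → ℕ) (k : ℕ) (st : Step) : Bool :=
  decide (0 < st.N) &&
  (((initKnown n st.tbl st.N k).bind fun K => treeKnown n st.tbl st.N k st.par (st.N - 1) K).bind
    fun K => deduce n st.tbl st.N m st.cert K).elim false (fun K => complete n st.tbl st.N k K)

/-- Value along the tree, computed with a generic step operation. -/
def build {α : Type*} (op : ℕ → α → α) (x : α) (par : List (ℕ × ℕ)) : ℕ → ℕ → α
  | 0, _ => x
  | f + 1, j => if j = 0 then x else op (parent par j).2 (build op x par f (parent par j).1)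

/-- Entry of a matrix given by lists. -/
def ent (C : List (List ℤ)) (a j : ℕ) : ℤ := (C.getD a []).getD j 0

/-- Reflection on coordinate lists. -/
def lrefl (n : ℕ) (C : List (List ℤ)) (a : ℕ) (l : List ℤ) : List ℤ :=
  (List.range n).map fun j => l.getD j 0 - l.getD a 0 * ent C a j

/-- Action of a word (rightmost letter first). -/
def lword (n : ℕ) (C : List (List ℤ)) (w : List ℕ) (l : List ℤ) : List ℤ := w.foldr (lrefl n C) l

/-- Pack a short vector of small integers. -/
def encVec : List ℤ → ℕ
  | [] => 0
  | x :: l => (x + 128).toNat + 256 * encVec l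

/-- Unpack a short vector of small integers. -/
def decVec (n q : ℕ) : List ℤ := (List.range n).map fun j => ((((q >>> (8 * j)) % 256 : ℕ)) : ℤ) - 128

/-- The weights of step `k` are pairwise distinct and the base is fixed by the smaller parabolic. -/
def checkWeights (n : ℕ) (C : List (List ℤ)) (k : ℕ) (st : Step) : Bool :=
  decide (st.v0.length = n) && ((List.range k).all fun a => lrefl n C a st.v0 == st.v0) &&
  decide st.pts.Nodup && decide (st.pts.length = st.N) &&
  decVec n (st.pts.getD 0 0) == st.v0 &&
  (st.pts.all fun q => encVec (decVec n q) == q) &&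
  (List.range (st.N - 1)).all fun i =>
    lrefl n C (parent st.par (i + 1)).2 (decVec n (st.pts.getD (parent st.par (i + 1)).1 0)) ==
      decVec n (st.pts.getD (i + 1) 0)

/-- Both checks for a whole chain starting at step `k`. -/
def checkChain (n : ℕ) (m : ℕ → ℕ → ℕ) (C : List (List ℤ)) : ℕ → List Step → Bool
  | k, [] => k == n
  | k, st :: l => checkTable n m k st && checkWeights n C k st && checkChain n m C (k + 1) l

/-- The standard basis as lists. -/
def basisList (n k : ℕ) : List ℤ := (List.range n).map fun j => if j = k then 1 else 0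

/-- The Coxeter relations hold for the reflections. -/
def checkRel (n : ℕ) (m : ℕ → ℕ → ℕ) (C : List (List ℤ)) : Bool :=
  (List.range n).all fun i => (List.range n).all fun j => (List.range n).all fun k =>
    lword n C (List.replicate (m i j) [i, j]).flatten (basisList n k) == basisList n k

/-- The word `0, 1, …, n-1` repeated `e` times. -/
def coxWord (n e : ℕ) : List ℕ := (List.replicate e (List.range n)).flatten

/-- The Coxeter element has order `h`. -/
def checkOrder (n h : ℕ) (C : List (List ℤ)) : Bool :=
  decide (0 < h) &&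
  ((List.range n).all fun k => lword n C (coxWord n h) (basisList n k) == basisList n k) &&
  ((List.range h).all fun e => e == 0 ||
    lword n C (coxWord n e) (List.replicate n 1) != List.replicate n 1)

/-! ### Soundness -/

section Generic

variable {W : Type*} [Group W] {X : Type*} [MulAction W X] (s : ℕ → W)

/-- Apply letters in reading order. -/
def act : List ℕ → X → X
  | [], x => x
  | a :: l, x => act l (s a • x)

theorem act_altList (t u k : ℕ) (x : X) :
    act s (altList t u k) x = ((s t * s u) ^ k * s t) • x := by
  induction k generalizing x with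
  | zero => simp [altList, act]
  | succ k ih => simp [altList, act, ih, pow_succ, mul_smul, mul_assoc]

theorem build_map {α β : Type*} (opA : ℕ → α → α) (opB : ℕ → β → β) (h : α → β)
    (hcomm : ∀ a x, h (opA a x) = opB a (h x)) (x : α) (par : List (ℕ × ℕ)) (f j : ℕ) :
    h (build opA x par f j) = build opB (h x) par f j := by
  induction f generalizing j with
  | zero => rfl
  | succ f ih => simp only [build]; split <;> simp [hcomm, ih]

variable (n T N : ℕ) (φ : ℕ → X)

/-- Edge `(v, a)` is correct. -/
def EdgeOK (v a : ℕ) : Prop := s a • φ v = φ (nbr n T v a)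

/-- All marked edges are correct. -/
def KnownOK (known : ℕ) : Prop := ∀ i, known.testBit i = true → EdgeOK s n T φ (i / n) (i % n)

variable {s n T N φ}

theorem knownOK_zero : KnownOK s n T φ 0 := fun i h => by simp at h

theorem testBit_mark {v a known i : ℕ} (h : (mark n T v a known).testBit i = true) :
    known.testBit i = true ∨ i = v * n + a ∨ i = nbr n T v a * n + a := by
  simp only [mark, Nat.testBit_lor, Nat.shiftLeft_eq, one_mul, Nat.testBit_two_pow,
    Bool.or_eq_true, decide_eq_true_eq] at h
  tauto

theorem knownOK_mark (hinv : ∀ a, s a * s a = 1) {v a known : ℕ} (hK : KnownOK s n T φ known)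
    (ha : a < n) (he : EdgeOK s n T φ v a) (hsym : nbr n T (nbr n T v a) a = v) :
    KnownOK s n T φ (mark n T v a known) := by
  have hdiv : ∀ u, (u * n + a) / n = u ∧ (u * n + a) % n = a := fun u =>
    ⟨by rw [Nat.mul_comm, Nat.mul_add_div (Nat.lt_of_le_of_lt (Nat.zero_le _) ha),
        Nat.div_eq_of_lt ha, Nat.add_zero],
      by rw [Nat.mul_comm, Nat.mul_add_mod, Nat.mod_eq_of_lt ha]⟩
  intro i hi
  rcases testBit_mark hi with h | rfl | rfl
  · exact hK i h
  · rw [(hdiv v).1, (hdiv v).2]; exact he
  · rw [(hdiv _).1, (hdiv _).2]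
    unfold EdgeOK at he ⊢
    rw [hsym, ← he, smul_smul, hinv, one_smul]

theorem walk_sound {known : ℕ} (hK : KnownOK s n T φ known) :
    ∀ (l : List ℕ) (v u : ℕ), walk n T known l v = some u → act s l (φ v) = φ u
  | [], v, u, h => by
    simp only [walk, Option.some.injEq] at h
    simp [act, h]
  | a :: l, v, u, h => by
    simp only [walk] at h
    split at h
    · next hb =>
      rw [Bool.and_eq_true, decide_eq_true_eq] at hb
      have he := hK _ hb.2
      have h1 : (v * n + a) / n = v := by
        rw [Nat.mul_comm, Nat.mul_add_div (Nat.lt_of_le_of_lt (Nat.zero_le _) hb.1),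
          Nat.div_eq_of_lt hb.1, Nat.add_zero]
      have h2 : (v * n + a) % n = a := by rw [Nat.mul_comm, Nat.mul_add_mod, Nat.mod_eq_of_lt hb.1]
      rw [h1, h2] at he
      show act s l (s a • φ v) = φ u
      rw [he]
      exact walk_sound hK l _ u h
    · simp at h

theorem deduce_sound (hinv : ∀ a, s a * s a = 1) {m : ℕ → ℕ → ℕ}
    (hrel : ∀ a b, (s a * s b) ^ m a b = 1) :
    ∀ (l : List (ℕ × ℕ × ℕ)) (K K' : ℕ), KnownOK s n T φ K → deduce n T N m l K = some K' →
      KnownOK s n T φ K'
  | [], K, K', hK, h => by
    simp only [deduce, Option.some.injEq] at h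
    exact h ▸ hK
  | (v, a, t) :: l, K, K', hK, h => by
    simp only [deduce] at h
    split at h
    · next hb =>
      simp only [Bool.and_eq_true, decide_eq_true_eq, beq_iff_eq] at hb
      obtain ⟨⟨⟨⟨⟨-, ha⟩, hm⟩, -⟩, hsym⟩, hwalk⟩ := hb
      refine deduce_sound hinv hrel l _ K' (knownOK_mark hinv hK ha ?_ hsym) h
      have hw := walk_sound hK _ _ _ hwalk
      rw [act_altList] at hw
      obtain ⟨k, hk⟩ := Nat.exists_eq_add_of_lt hm
      have hk' : m t a - 1 = k := by omega
      have hone : (s t * s a) ^ k * s t * s a = 1 := by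
        rw [mul_assoc, ← pow_succ, show k + 1 = m t a by omega, hrel]
      have hsa : (s t * s a) ^ k * s t = s a := by
        calc (s t * s a) ^ k * s t = (s t * s a) ^ k * s t * (s a * s a) := by rw [hinv, mul_one]
          _ = s a := by rw [← mul_assoc, hone, one_mul]
      rw [hk', hsa] at hw
      exact hw
    · simp at h

end Generic

section Main

variable {n : ℕ} (M : CoxeterMatrix (Fin n))

/-- Simple reflections indexed by naturals. -/
def gen (a : ℕ) : M.Group := if h : a < n then M.simple ⟨a, h⟩ else 1

/-- Coxeter exponents indexed by naturals. -/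
def mfun (a b : ℕ) : ℕ := if h : a < n ∧ b < n then M ⟨a, h.1⟩ ⟨b, h.2⟩ else 0

theorem gen_mul_self (a : ℕ) : gen M a * gen M a = 1 := by
  unfold gen
  split
  · exact M.toCoxeterSystem.simple_mul_simple_self _
  · simp

theorem gen_rel (a b : ℕ) : (gen M a * gen M b) ^ mfun M a b = 1 := by
  by_cases h : a < n ∧ b < n
  · simp only [gen, mfun, dif_pos h, dif_pos h.1, dif_pos h.2]
    exact M.toCoxeterSystem.simple_mul_simple_pow _ _
  · simp [mfun, h]

/-- The parabolic subgroup on the first `k` generators. -/
def para (k : ℕ) : Subgroup M.Group := Subgroup.closure (gen M '' {a | a < k})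

theorem gen_mem_para {a k : ℕ} (h : a < k) : gen M a ∈ para M k :=
  Subgroup.subset_closure ⟨a, h, rfl⟩

theorem para_mono {i k : ℕ} (h : i ≤ k) : para M i ≤ para M k :=
  Subgroup.closure_mono (Set.image_mono fun _ ha => Nat.lt_of_lt_of_le ha h)

theorem para_top : para M n = ⊤ := by
  rw [eq_top_iff, ← M.toCoxeterSystem.subgroup_closure_range_simple, Subgroup.closure_le]
  rintro _ ⟨i, rfl⟩
  have := gen_mem_para M i.2
  rwa [gen, dif_pos i.2] at this

/-- Coset representative along the tree. -/
def rep (par : List (ℕ × ℕ)) (f j : ℕ) : M.Group := build (fun a x => gen M a * x) 1 par f j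

theorem initKnown_sound {T N k : ℕ} {φ : ℕ → M.Group ⧸ para M k}
    (h0 : φ 0 = ((1 : M.Group) : M.Group ⧸ para M k)) :
    ∀ (i K : ℕ), i ≤ k → initKnown n T N i = some K → KnownOK (gen M) n T φ K
  | 0, K, _, h => by
    simp only [initKnown, Option.some.injEq] at h
    exact h ▸ knownOK_zero
  | i + 1, K, hi, h => by
    simp only [initKnown, Option.bind_eq_some_iff] at h
    obtain ⟨K₀, hK₀, h⟩ := h
    split at h
    · next hb =>
      simp only [Bool.and_eq_true, decide_eq_true_eq, beq_iff_eq] at hb
      simp only [Option.some.injEq] at h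
      subst h
      refine knownOK_mark (gen_mul_self M) (initKnown_sound h0 i K₀ (by omega) hK₀) hb.1.1 ?_
        (by rw [hb.2, hb.2])
      unfold EdgeOK
      rw [hb.2, h0]
      exact QuotientGroup.eq.2 (by simpa using (para M k).inv_mem (gen_mem_para M (show i < k by omega)))
    · simp at h

theorem rep_stable (par : List (ℕ × ℕ)) {J : ℕ} (hpar : ∀ j, 0 < j → j ≤ J → (parent par j).1 < j) :
    ∀ f j, j ≤ J → j ≤ f → rep M par f j = rep M par j j := by
  intro f
  induction f using Nat.strong_induction_on with
  | _ f ih =>
    intro j hjJ hjf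
    rcases Nat.eq_zero_or_pos j with rfl | hj
    · cases f with
      | zero => rfl
      | succ f => simp [rep, build]
    · obtain ⟨f, rfl⟩ : ∃ g, f = g + 1 := ⟨f - 1, by omega⟩
      obtain ⟨i, rfl⟩ : ∃ g, j = g + 1 := ⟨j - 1, by omega⟩
      have hp := hpar (i + 1) hj hjJ
      have e1 := ih f (by omega) (parent par (i + 1)).1 (by omega) (by omega)
      have e2 := ih i (by omega) (parent par (i + 1)).1 (by omega) (by omega)
      simp only [rep] at e1 e2 ⊢
      simp [build, e1, e2]

theorem rep_mem (par : List (ℕ × ℕ)) {J k : ℕ}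
    (hpar : ∀ j, 0 < j → j ≤ J → (parent par j).1 < j ∧ (parent par j).2 < k + 1) :
    ∀ j, j ≤ J → rep M par j j ∈ para M (k + 1) := by
  intro j
  induction j using Nat.strong_induction_on with
  | _ j ih =>
    intro hj
    rcases Nat.eq_zero_or_pos j with rfl | h0
    · exact one_mem _
    · obtain ⟨i, rfl⟩ : ∃ g, j = g + 1 := ⟨j - 1, by omega⟩
      have hp := hpar (i + 1) h0 hj
      have he := rep_stable M par (fun j h h' => (hpar j h h').1) i (parent par (i + 1)).1
        (by omega) (by omega)
      show build (fun a x => gen M a * x) 1 par (i + 1) (i + 1) ∈ _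
      simp only [rep] at he
      simp only [build, Nat.succ_ne_zero, if_false, he]
      exact mul_mem (gen_mem_para M hp.2) (ih _ hp.1 (by omega))

theorem treeKnown_par {T N k : ℕ} {par : List (ℕ × ℕ)} :
    ∀ (J K K' : ℕ), treeKnown n T N k par J K = some K' →
      ∀ j, 0 < j → j ≤ J → (parent par j).1 < j ∧ (parent par j).2 < k + 1
  | 0, _, _, _, j, h, h' => absurd h' (by omega)
  | J + 1, K, K', h, j, hj, hj' => by
    simp only [treeKnown, Option.bind_eq_some_iff] at h
    obtain ⟨K₀, hK₀, h⟩ := h
    rcases Nat.lt_or_ge j (J + 1) with hlt | hge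
    · exact treeKnown_par J K K₀ hK₀ j hj (by omega)
    · obtain rfl : j = J + 1 := by omega
      split at h
      · next hb =>
        simp only [Bool.and_eq_true, decide_eq_true_eq, beq_iff_eq] at hb
        exact ⟨by omega, hb.1.1.2⟩
      · simp at h

theorem treeKnown_sound {T N k : ℕ} {par : List (ℕ × ℕ)} {φ : ℕ → M.Group ⧸ para M k}
    (hφ : ∀ j, φ j = (rep M par j j : M.Group ⧸ para M k)) :
    ∀ (J K K' : ℕ), treeKnown n T N k par J K = some K' → KnownOK (gen M) n T φ K →
      KnownOK (gen M) n T φ K'
  | 0, K, K', h, hK => by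
    simp only [treeKnown, Option.some.injEq] at h
    exact h ▸ hK
  | J + 1, K, K', h, hK => by
    have hpar := treeKnown_par (J + 1) K K' h
    simp only [treeKnown, Option.bind_eq_some_iff] at h
    obtain ⟨K₀, hK₀, h⟩ := h
    split at h
    · next hb =>
      simp only [Bool.and_eq_true, decide_eq_true_eq, beq_iff_eq] at hb
      obtain ⟨⟨⟨⟨⟨hp, -⟩, ha⟩, -⟩, he⟩, hs⟩ := hb
      simp only [Option.some.injEq] at h
      subst h
      refine knownOK_mark (gen_mul_self M) (treeKnown_sound hφ J K K₀ hK₀ hK) ha ?_
        (by rw [he, hs])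
      unfold EdgeOK
      rw [he, hφ, hφ]
      have hst := rep_stable M par (fun j h h' => (hpar j h h').1) J (parent par (J + 1)).1
        (by omega) (by omega)
      simp only [rep] at hst ⊢
      simp [build, hst]
    · simp at h

/-- A step of the chain enumerates the cosets. -/
theorem exists_rep {k : ℕ} {st : Step} (h : checkTable n (mfun M) k st = true) :
    k < n ∧ 0 < st.N ∧
    (∀ j, 0 < j → j < st.N → (parent st.par j).1 < j ∧ (parent st.par j).2 < k + 1) ∧
    (∀ g ∈ para M (k + 1), ∃ j < st.N, ∃ h' ∈ para M k, g = rep M st.par j j * h') := by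
  simp only [checkTable, Bool.and_eq_true, decide_eq_true_eq] at h
  obtain ⟨hN, h⟩ := h
  cases hK : ((initKnown n st.tbl st.N k).bind fun K =>
      treeKnown n st.tbl st.N k st.par (st.N - 1) K).bind fun K =>
      deduce n st.tbl st.N (mfun M) st.cert K with
  | none => simp [hK] at h
  | some K =>
    rw [hK] at h
    simp only [Option.elim, complete, Bool.and_eq_true, decide_eq_true_eq, List.all_eq_true,
      List.mem_range] at h
    obtain ⟨hkn, hall⟩ := h
    simp only [Option.bind_eq_some_iff] at hK
    obtain ⟨K₂, ⟨K₁, hK₁, hK₂⟩, hK₃⟩ := hK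
    have hpar : ∀ j, 0 < j → j < st.N → (parent st.par j).1 < j ∧ (parent st.par j).2 < k + 1 :=
      fun j h0 hj => treeKnown_par _ _ _ hK₂ j h0 (by omega)
    refine ⟨by omega, hN, hpar, ?_⟩
    let φ : ℕ → M.Group ⧸ para M k := fun j => (rep M st.par j j : M.Group ⧸ para M k)
    have h1 := initKnown_sound M (φ := φ) rfl k K₁ le_rfl hK₁
    have h2 := treeKnown_sound M (φ := φ) (fun j => rfl) _ _ _ hK₂ h1
    have h3 := deduce_sound (gen_mul_self M) (gen_rel M) _ _ _ h2 hK₃
    have hstep : ∀ v a, v < st.N → a < k + 1 →
        gen M a • φ v = φ (nbr n st.tbl v a) ∧ nbr n st.tbl v a < st.N := by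
      intro v a hv ha
      obtain ⟨hb, hlt⟩ := hall v hv a ha
      have he := h3 _ hb
      have h1 : (v * n + a) / n = v := by
        rw [Nat.mul_comm, Nat.mul_add_div (by omega), Nat.div_eq_of_lt (by omega), Nat.add_zero]
      have h2 : (v * n + a) % n = a := by
        rw [Nat.mul_comm, Nat.mul_add_mod, Nat.mod_eq_of_lt (by omega)]
      rw [h1, h2] at he
      exact ⟨he, hlt⟩
    intro g hg
    suffices ∃ j < st.N, g • φ 0 = φ j by
      obtain ⟨j, hj, he⟩ := this
      have hj0 : φ 0 = ((1 : M.Group) : M.Group ⧸ para M k) := rfl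
      rw [hj0] at he
      have hm : (rep M st.par j j)⁻¹ * g ∈ para M k := by
        have he' : ((g * 1 : M.Group) : M.Group ⧸ para M k) = (rep M st.par j j : M.Group ⧸ para M k) := he
        rw [mul_one] at he'
        exact QuotientGroup.eq.1 he'.symm
      exact ⟨j, hj, _, hm, (mul_inv_cancel_left _ _).symm⟩
    induction hg using Subgroup.closure_induction_left with
    | one => exact ⟨0, hN, one_smul _ _⟩
    | mul_left x hx y hy ih =>
      obtain ⟨a, ha, rfl⟩ := hx
      obtain ⟨j, hj, hjy⟩ := ih
      exact ⟨_, (hstep j a hj ha).2, by rw [mul_smul, hjy, (hstep j a hj ha).1]⟩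
    | inv_mul_cancel x hx y hy ih =>
      obtain ⟨a, ha, rfl⟩ := hx
      obtain ⟨j, hj, hjy⟩ := ih
      refine ⟨_, (hstep j a hj ha).2, ?_⟩
      rw [inv_eq_of_mul_eq_one_left (gen_mul_self M a), mul_smul, hjy, (hstep j a hj ha).1]

variable (C : List (List ℤ))

/-- Reflection as a linear map. -/
def refl (a : ℕ) : Module.End ℤ (Fin n → ℤ) where
  toFun v j := v j - (if h : a < n then v ⟨a, h⟩ else 0) * ent C a j
  map_add' u v := by
    ext j; simp only [Pi.add_apply]; split <;> ring
  map_smul' c v := by
    ext j; simp only [Pi.smul_apply, smul_eq_mul, RingHom.id_apply]; split <;> ring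

theorem getD_ofFn (v : Fin n → ℤ) (j : ℕ) :
    (List.ofFn v).getD j 0 = if h : j < n then v ⟨j, h⟩ else 0 := by
  split
  · next h =>
    rw [List.getD_eq_getElem _ _ (by simpa using h), List.getElem_ofFn]
  · next h => exact List.getD_eq_default _ _ (by simpa using h)

theorem ofFn_refl (a : ℕ) (v : Fin n → ℤ) :
    List.ofFn (refl C a v) = lrefl n C a (List.ofFn v) := by
  apply List.ext_getElem
  · simp [lrefl]
  · intro i h₁ h₂
    have hi : i < n := by simpa using h₁
    simp only [lrefl, List.getElem_map, List.getElem_range, List.getElem_ofFn, getD_ofFn,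
      dif_pos hi]
    rfl

theorem ofFn_prod (w : List ℕ) (v : Fin n → ℤ) :
    List.ofFn ((w.map (refl C)).prod v) = lword n C w (List.ofFn v) := by
  induction w with
  | nil => simp [lword]
  | cons a w ih =>
    rw [List.map_cons, List.prod_cons, Module.End.mul_apply, ofFn_refl, ih]
    rfl

theorem ofFn_single (k : Fin n) : List.ofFn (Pi.single k (1 : ℤ)) = basisList n k := by
  apply List.ext_getElem
  · simp [basisList]
  · intro i h₁ h₂
    simp [basisList, Pi.single_apply, Fin.ext_iff]

theorem prod_eq_one_of_basis (w : List ℕ)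
    (h : ∀ k < n, lword n C w (basisList n k) = basisList n k) :
    (w.map (refl (n := n) C)).prod = 1 := by
  refine LinearMap.pi_ext' fun k => LinearMap.ext_ring ?_
  apply List.ofFn_injective
  show List.ofFn ((w.map (refl C)).prod (Pi.single k 1)) = List.ofFn (Pi.single k (1 : ℤ))
  rw [ofFn_prod, ofFn_single]
  exact h k k.2

theorem map_replicate_flatten_prod {α G : Type*} [Monoid G] (f : α → G) (w : List α) (e : ℕ) :
    ((List.replicate e w).flatten.map f).prod = (w.map f).prod ^ e := by
  induction e with
  | zero => simp
  | succ e ih => simp [List.replicate_succ, pow_succ']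

theorem refl_liftable (h : checkRel n (mfun M) C = true) :
    M.IsLiftable (fun i : Fin n => refl (n := n) C i) := by
  intro i j
  simp only [checkRel, List.all_eq_true, List.mem_range, beq_iff_eq] at h
  have hij := prod_eq_one_of_basis C _ (h i i.2 j j.2)
  rw [map_replicate_flatten_prod] at hij
  simpa [mfun] using hij

/-- The reflection representation. -/
noncomputable def reflRep (h : checkRel n (mfun M) C = true) :
    M.Group →* Module.End ℤ (Fin n → ℤ) :=
  M.toCoxeterSystem.lift ⟨_, refl_liftable M C h⟩

theorem reflRep_gen (h : checkRel n (mfun M) C = true) (a : ℕ) (ha : a < n) :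
    reflRep M C h (gen M a) = refl C a := by
  rw [gen, dif_pos ha]
  exact M.toCoxeterSystem.lift_apply_simple (refl_liftable M C h) ⟨a, ha⟩

/-- A vector from a list. -/
def vec (l : List ℤ) : Fin n → ℤ := fun j => l.getD j 0

theorem ofFn_vec {l : List ℤ} (hl : l.length = n) : List.ofFn (vec (n := n) l) = l := by
  apply List.ext_getElem
  · simp [hl]
  · intro i h₁ h₂
    rw [List.getElem_ofFn]
    exact List.getD_eq_getElem _ _ h₂

theorem step_spec (hrel : checkRel n (mfun M) C = true) {k : ℕ} {st : Step}
    (ht : checkTable n (mfun M) k st = true) (hw : checkWeights n C k st = true)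
    [Finite (para M k)] (hinj : ∀ g ∈ para M k, reflRep M C hrel g = 1 → g = 1) :
    Finite (para M (k + 1)) ∧ Nat.card (para M (k + 1)) = st.N * Nat.card (para M k) ∧
      ∀ g ∈ para M (k + 1), reflRep M C hrel g = 1 → g = 1 := by
  obtain ⟨hkn, hN, hpar, hex⟩ := exists_rep M ht
  simp only [checkWeights, Bool.and_eq_true, decide_eq_true_eq, List.all_eq_true, List.mem_range,
    beq_iff_eq] at hw
  obtain ⟨⟨⟨⟨⟨⟨hlen, hfix⟩, hnd⟩, hplen⟩, hp0⟩, henc⟩, hptree⟩ := hw
  set R := reflRep M C hrel with hR
  set v : Fin n → ℤ := vec st.v0 with hv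
  have hRv : ∀ g ∈ para M k, R g v = v := by
    intro g hg
    induction hg using Subgroup.closure_induction_left with
    | one => simp
    | mul_left x hx y hy ih =>
      obtain ⟨a, ha, rfl⟩ := hx
      rw [map_mul, Module.End.mul_apply, ih, hR, reflRep_gen M C hrel a (lt_trans ha hkn)]
      apply List.ofFn_injective
      rw [ofFn_refl, hv, ofFn_vec hlen]
      exact hfix a ha
    | inv_mul_cancel x hx y hy ih =>
      obtain ⟨a, ha, rfl⟩ := hx
      rw [inv_eq_of_mul_eq_one_left (gen_mul_self M a), map_mul, Module.End.mul_apply, ih, hR,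
        reflRep_gen M C hrel a (lt_trans ha hkn)]
      apply List.ofFn_injective
      rw [ofFn_refl, hv, ofFn_vec hlen]
      exact hfix a ha
  have hstab : ∀ f j, j < st.N → j ≤ f → rep M st.par f j = rep M st.par j j := fun f j hj hf =>
    rep_stable M st.par (J := st.N - 1) (fun i h0 hi => (hpar i h0 (by omega)).1) f j (by omega) hf
  have himage : ∀ f j, j < st.N → j ≤ f →
      List.ofFn (R (rep M st.par f j) v) = build (lrefl n C) st.v0 st.par f j := by
    intro f
    induction f with
    | zero =>
      intro j hj hj0
      simp only [rep, build, map_one, Module.End.one_apply, hv, ofFn_vec hlen]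
    | succ f ih =>
      intro j hj hj0
      simp only [rep, build]
      split
      · simp only [map_one, Module.End.one_apply, hv, ofFn_vec hlen]
      · next hne =>
        have hp := hpar j (by omega) hj
        rw [map_mul, Module.End.mul_apply, hR, reflRep_gen M C hrel _ (by omega), ofFn_refl, ← hR]
        have := ih (parent st.par j).1 (by omega) (by omega)
        simp only [rep] at this
        rw [this]
  have hdec : ∀ f j, j < st.N → j ≤ f →
      build (lrefl n C) st.v0 st.par f j = decVec n (st.pts.getD j 0) := by
    intro f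
    induction f with
    | zero =>
      intro j hj hj0
      obtain rfl : j = 0 := by omega
      simp only [build]
      exact hp0.symm
    | succ f ih =>
      intro j hj hj0
      simp only [build]
      split
      · next he => subst he; exact hp0.symm
      · next hne =>
        obtain ⟨i, rfl⟩ : ∃ i, j = i + 1 := ⟨j - 1, by omega⟩
        have hp := hpar (i + 1) (by omega) hj
        rw [ih _ (by omega) (by omega)]
        exact hptree i (by omega)
  have hsep : ∀ i < st.N, ∀ j < st.N,
      R (rep M st.par i i) v = R (rep M st.par j j) v → i = j := by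
    intro i hi j hj he
    have he' := congrArg List.ofFn he
    rw [himage i i hi le_rfl, himage j j hj le_rfl] at he'
    rw [hdec i i hi le_rfl, hdec j j hj le_rfl] at he'
    have he'' := congrArg encVec he'
    have hin : ∀ j < st.N, st.pts.getD j 0 ∈ st.pts := fun j hj => by
      rw [List.getD_eq_getElem _ _ (by omega)]
      exact List.getElem_mem _
    rw [henc _ (hin i hi), henc _ (hin j hj)] at he''
    rw [List.getD_eq_getElem _ _ (by omega), List.getD_eq_getElem _ _ (by omega)] at he''
    exact (hnd.getElem_inj_iff).1 he''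
  have hmem : ∀ j < st.N, rep M st.par j j ∈ para M (k + 1) := fun j hj =>
    rep_mem M st.par (J := st.N - 1) (fun i h0 hi => hpar i h0 (by omega)) j (by omega)
  let e : Fin st.N × para M k → para M (k + 1) := fun p =>
    ⟨rep M st.par p.1 p.1 * p.2, mul_mem (hmem _ p.1.2) (para_mono M (Nat.le_succ k) p.2.2)⟩
  have hbij : Function.Bijective e := by
    constructor
    · rintro ⟨i, x⟩ ⟨j, y⟩ he
      have he' : rep M st.par i i * x = rep M st.par j j * y := congrArg Subtype.val he
      have hij := congrArg (fun g => R g v) he'
      simp only [map_mul, Module.End.mul_apply, hRv _ x.2, hRv _ y.2] at hij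
      obtain rfl : i = j := Fin.ext (hsep i i.2 j j.2 hij)
      exact Prod.ext rfl (Subtype.ext (mul_left_cancel he'))
    · rintro ⟨g, hg⟩
      obtain ⟨j, hj, x, hx, rfl⟩ := hex g hg
      exact ⟨(⟨j, hj⟩, ⟨x, hx⟩), rfl⟩
  refine ⟨Finite.of_surjective e hbij.2, ?_, ?_⟩
  · rw [← Nat.card_eq_of_bijective e hbij, Nat.card_prod, Nat.card_fin]
  · intro g hg hg1
    obtain ⟨j, hj, x, hx, rfl⟩ := hex g hg
    have h2 : R (rep M st.par j j) v = R (rep M st.par 0 0) v := by
      have := congrArg (fun f => f v) hg1
      simp only [map_mul, Module.End.mul_apply, hRv x hx, Module.End.one_apply] at this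
      rw [this]
      simp [rep, build]
    obtain rfl := hsep j hj 0 hN h2
    simp only [rep, build, one_mul] at hg1 ⊢
    exact hinj x hx hg1

theorem chain_spec (hrel : checkRel n (mfun M) C = true) :
    ∀ (l : List Step) (k : ℕ), checkChain n (mfun M) C k l = true → Finite (para M k) →
      (∀ g ∈ para M k, reflRep M C hrel g = 1 → g = 1) →
      Nat.card M.Group = Nat.card (para M k) * (l.map Step.N).prod ∧
        Function.Injective (reflRep M C hrel)
  | [], k, h, hfin, hinj => by
    simp only [checkChain, beq_iff_eq] at h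
    subst h
    constructor
    · simp only [List.map_nil, List.prod_nil, mul_one]
      rw [para_top]
      exact Subgroup.card_top.symm
    · refine fun a b hab => ?_
      have : b⁻¹ * a ∈ para M k := by rw [para_top]; trivial
      have h1 := hinj _ this (by rw [map_mul, hab, ← map_mul, inv_mul_cancel, map_one])
      exact (inv_mul_eq_one.1 h1).symm
  | st :: l, k, h, hfin, hinj => by
    simp only [checkChain, Bool.and_eq_true] at h
    obtain ⟨hfin', hcard, hinj'⟩ := step_spec M C hrel h.1.1 h.1.2 hinj
    obtain ⟨h1, h2⟩ := chain_spec hrel l (k + 1) h.2 hfin' hinj'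
    refine ⟨?_, h2⟩
    rw [h1, hcard, List.map_cons, List.prod_cons]
    ring

theorem para_zero : para M 0 = ⊥ := by
  simp [para]

/-- The certificate theorem: order and faithfulness. -/
theorem card_and_faithful (steps : List Step) (hrel : checkRel n (mfun M) C = true)
    (hchain : checkChain n (mfun M) C 0 steps = true) :
    Nat.card M.Group = (steps.map Step.N).prod ∧ Function.Injective (reflRep M C hrel) := by
  have hfin : Finite (para M 0) := by rw [para_zero]; infer_instance
  obtain ⟨h1, h2⟩ := chain_spec M C hrel steps 0 hchain hfin (by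
    intro g hg _
    rwa [para_zero, Subgroup.mem_bot] at hg)
  refine ⟨?_, h2⟩
  rw [h1, para_zero, Subgroup.card_bot, one_mul]

theorem coxeter_element_order (steps : List Step) (hrel : checkRel n (mfun M) C = true)
    (hchain : checkChain n (mfun M) C 0 steps = true) {h : ℕ} (ho : checkOrder n h C = true) :
    orderOf ((List.finRange n).map M.simple).prod = h := by
  obtain ⟨-, hinj⟩ := card_and_faithful M C steps hrel hchain
  rw [← orderOf_injective (reflRep M C hrel) hinj]
  simp only [checkOrder, Bool.and_eq_true, decide_eq_true_eq, List.all_eq_true, List.mem_range,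
    beq_iff_eq, Bool.or_eq_true, bne_iff_ne] at ho
  obtain ⟨⟨hpos, hone⟩, hne⟩ := ho
  have hw : reflRep M C hrel ((List.finRange n).map M.simple).prod =
      ((List.range n).map (refl C)).prod := by
    rw [map_list_prod, List.map_map, ← List.map_coe_finRange_eq_range, List.map_map]
    congr 1
  rw [hw, orderOf_eq_iff hpos]
  refine ⟨?_, ?_⟩
  · rw [← map_replicate_flatten_prod]
    exact prod_eq_one_of_basis C _ hone
  · intro e he he0 h1
    rcases hne e he with h0 | h0
    · omega
    · apply h0
      have := congrArg (fun f : Module.End ℤ (Fin n → ℤ) => List.ofFn (f (vec (List.replicate n 1)))) h1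
      rw [← map_replicate_flatten_prod] at this
      simp only [ofFn_prod, Module.End.one_apply, ofFn_vec (List.length_replicate ..)] at this
      exact this

end Main

end CfsgLib.CoxeterFinite
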