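import Cfsg.Prelude.Def_ChevStructure
import Cfsg.Agent.Lib.Coxeter.FiniteData

/-!
Orders, faithful reflection representations and Coxeter numbers of the presented groups of type
B2, G2, D4, F4, E6, E7, E8.
-/

set_option autoImplicit false

namespace CfsgLib.CoxeterFinite

theorem b2_rel : checkRel 2 (mfun (CoxeterMatrix.B 2)) b2Cartan = true := by decide +kernel

theorem b2_chain : checkChain 2 (mfun (CoxeterMatrix.B 2)) b2Cartan 0 b2Steps = true := by decide +kernel

theorem b2_order : checkOrder 2 4 b2Cartan = true := by decide +kernel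

theorem b2_card : Nat.card ((CoxeterMatrix.B 2)).Group = 8 :=
  (card_and_faithful (CoxeterMatrix.B 2) b2Cartan b2Steps b2_rel b2_chain).1.trans (by decide +kernel)

/-- The reflection representation of type b2 is faithful. -/
theorem b2_faithful : Function.Injective (reflRep (CoxeterMatrix.B 2) b2Cartan b2_rel) :=
  (card_and_faithful (CoxeterMatrix.B 2) b2Cartan b2Steps b2_rel b2_chain).2

theorem b2_coxeter_number :
    orderOf ((List.finRange 2).map ((CoxeterMatrix.B 2)).simple).prod = 4 :=
  coxeter_element_order (CoxeterMatrix.B 2) b2Cartan b2Steps b2_rel b2_chain b2_order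

theorem g2_rel : checkRel 2 (mfun CoxeterMatrix.G₂) g2Cartan = true := by decide +kernel

theorem g2_chain : checkChain 2 (mfun CoxeterMatrix.G₂) g2Cartan 0 g2Steps = true := by decide +kernel

theorem g2_order : checkOrder 2 6 g2Cartan = true := by decide +kernel

theorem g2_card : Nat.card (CoxeterMatrix.G₂).Group = 12 :=
  (card_and_faithful CoxeterMatrix.G₂ g2Cartan g2Steps g2_rel g2_chain).1.trans (by decide +kernel)

/-- The reflection representation of type g2 is faithful. -/
theorem g2_faithful : Function.Injective (reflRep CoxeterMatrix.G₂ g2Cartan g2_rel) :=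
  (card_and_faithful CoxeterMatrix.G₂ g2Cartan g2Steps g2_rel g2_chain).2

theorem g2_coxeter_number :
    orderOf ((List.finRange 2).map (CoxeterMatrix.G₂).simple).prod = 6 :=
  coxeter_element_order CoxeterMatrix.G₂ g2Cartan g2Steps g2_rel g2_chain g2_order

theorem d4_rel : checkRel 4 (mfun Cfsg.Lie.coxeterD4) d4Cartan = true := by decide +kernel

theorem d4_chain : checkChain 4 (mfun Cfsg.Lie.coxeterD4) d4Cartan 0 d4Steps = true := by decide +kernel

theorem d4_order : checkOrder 4 6 d4Cartan = true := by decide +kernel

theorem d4_card : Nat.card (Cfsg.Lie.coxeterD4).Group = 192 :=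
  (card_and_faithful Cfsg.Lie.coxeterD4 d4Cartan d4Steps d4_rel d4_chain).1.trans (by decide +kernel)

/-- The reflection representation of type d4 is faithful. -/
theorem d4_faithful : Function.Injective (reflRep Cfsg.Lie.coxeterD4 d4Cartan d4_rel) :=
  (card_and_faithful Cfsg.Lie.coxeterD4 d4Cartan d4Steps d4_rel d4_chain).2

theorem d4_coxeter_number :
    orderOf ((List.finRange 4).map (Cfsg.Lie.coxeterD4).simple).prod = 6 :=
  coxeter_element_order Cfsg.Lie.coxeterD4 d4Cartan d4Steps d4_rel d4_chain d4_order

theorem f4_rel : checkRel 4 (mfun CoxeterMatrix.F₄) f4Cartan = true := by decide +kernel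

theorem f4_chain : checkChain 4 (mfun CoxeterMatrix.F₄) f4Cartan 0 f4Steps = true := by decide +kernel

theorem f4_order : checkOrder 4 12 f4Cartan = true := by decide +kernel

theorem f4_card : Nat.card (CoxeterMatrix.F₄).Group = 1152 :=
  (card_and_faithful CoxeterMatrix.F₄ f4Cartan f4Steps f4_rel f4_chain).1.trans (by decide +kernel)

/-- The reflection representation of type f4 is faithful. -/
theorem f4_faithful : Function.Injective (reflRep CoxeterMatrix.F₄ f4Cartan f4_rel) :=
  (card_and_faithful CoxeterMatrix.F₄ f4Cartan f4Steps f4_rel f4_chain).2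

theorem f4_coxeter_number :
    orderOf ((List.finRange 4).map (CoxeterMatrix.F₄).simple).prod = 12 :=
  coxeter_element_order CoxeterMatrix.F₄ f4Cartan f4Steps f4_rel f4_chain f4_order

theorem e6_rel : checkRel 6 (mfun CoxeterMatrix.E₆) e6Cartan = true := by decide +kernel

theorem e6_chain : checkChain 6 (mfun CoxeterMatrix.E₆) e6Cartan 0 e6Steps = true := by decide +kernel

theorem e6_order : checkOrder 6 12 e6Cartan = true := by decide +kernel

theorem e6_card : Nat.card (CoxeterMatrix.E₆).Group = 51840 :=
  (card_and_faithful CoxeterMatrix.E₆ e6Cartan e6Steps e6_rel e6_chain).1.trans (by decide +kernel)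

/-- The reflection representation of type e6 is faithful. -/
theorem e6_faithful : Function.Injective (reflRep CoxeterMatrix.E₆ e6Cartan e6_rel) :=
  (card_and_faithful CoxeterMatrix.E₆ e6Cartan e6Steps e6_rel e6_chain).2

theorem e6_coxeter_number :
    orderOf ((List.finRange 6).map (CoxeterMatrix.E₆).simple).prod = 12 :=
  coxeter_element_order CoxeterMatrix.E₆ e6Cartan e6Steps e6_rel e6_chain e6_order

theorem e7_rel : checkRel 7 (mfun CoxeterMatrix.E₇) e7Cartan = true := by decide +kernel

theorem e7_chain : checkChain 7 (mfun CoxeterMatrix.E₇) e7Cartan 0 e7Steps = true := by decide +kernel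

theorem e7_order : checkOrder 7 18 e7Cartan = true := by decide +kernel

theorem e7_card : Nat.card (CoxeterMatrix.E₇).Group = 2903040 :=
  (card_and_faithful CoxeterMatrix.E₇ e7Cartan e7Steps e7_rel e7_chain).1.trans (by decide +kernel)

/-- The reflection representation of type e7 is faithful. -/
theorem e7_faithful : Function.Injective (reflRep CoxeterMatrix.E₇ e7Cartan e7_rel) :=
  (card_and_faithful CoxeterMatrix.E₇ e7Cartan e7Steps e7_rel e7_chain).2

theorem e7_coxeter_number :
    orderOf ((List.finRange 7).map (CoxeterMatrix.E₇).simple).prod = 18 :=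
  coxeter_element_order CoxeterMatrix.E₇ e7Cartan e7Steps e7_rel e7_chain e7_order

theorem e8_rel : checkRel 8 (mfun CoxeterMatrix.E₈) e8Cartan = true := by decide +kernel

theorem e8_chain : checkChain 8 (mfun CoxeterMatrix.E₈) e8Cartan 0 e8Steps = true := by decide +kernel

theorem e8_order : checkOrder 8 30 e8Cartan = true := by decide +kernel

theorem e8_card : Nat.card (CoxeterMatrix.E₈).Group = 696729600 :=
  (card_and_faithful CoxeterMatrix.E₈ e8Cartan e8Steps e8_rel e8_chain).1.trans (by decide +kernel)

/-- The reflection representation of type e8 is faithful. -/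
theorem e8_faithful : Function.Injective (reflRep CoxeterMatrix.E₈ e8Cartan e8_rel) :=
  (card_and_faithful CoxeterMatrix.E₈ e8Cartan e8Steps e8_rel e8_chain).2

theorem e8_coxeter_number :
    orderOf ((List.finRange 8).map (CoxeterMatrix.E₈).simple).prod = 30 :=
  coxeter_element_order CoxeterMatrix.E₈ e8Cartan e8Steps e8_rel e8_chain e8_order

end CfsgLib.CoxeterFinite
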